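import Cfsg.Agent.Lib.TC.D.Fi23Chain.X_Tab
import Cfsg.Agent.Lib.TC.D.Fi23Chain.X_C0
import Cfsg.Agent.Lib.TC.D.Fi23Chain.X_P0
import Cfsg.Agent.Lib.TC.D.Fi23Chain.X_P1
import Cfsg.Agent.Lib.TC.D.Fi23Chain.X_P2
import Cfsg.Agent.Lib.TC.D.Fi23Chain.X_P3
import Cfsg.Agent.Lib.TC.D.Fi23Chain.X_P4
import Cfsg.Agent.Lib.TC.D.Fi23Chain.X_P5
import Cfsg.Agent.Lib.TC.D.Fi23Chain.X_P6
import Cfsg.Agent.Lib.TC.D.Fi23Chain.X_P7
import Cfsg.Agent.Lib.TC.D.Fi23Chain.X_P8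
import Cfsg.Agent.Lib.TC.D.Fi23Chain.X_P9
import Cfsg.Agent.Lib.TC.D.Fi23Chain.X_P10
import Cfsg.Agent.Lib.TC.D.Fi23Chain.X_P11
import Cfsg.Agent.Lib.TC.D.Fi23Chain.X_P12
import Cfsg.Agent.Lib.TC.D.Fi23Chain.X_P13
import Cfsg.Agent.Lib.TC.D.Fi23Chain.X_P14
import Cfsg.Agent.Lib.TC.D.Fi23Chain.X_P15
import Cfsg.Agent.Lib.TC.D.Fi23Chain.X_P16
import Cfsg.Agent.Lib.TC.D.Fi23Chain.X_P17
import Cfsg.Agent.Lib.TC.D.Fi23Chain.X_P18
import Cfsg.Agent.Lib.TC.D.Fi23Chain.X_P19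
import Cfsg.Agent.Lib.TC.D.Fi23Chain.X_P20
import Cfsg.Agent.Lib.TC.D.Fi23Chain.X_P21
import Cfsg.Agent.Lib.TC.D.Fi23Chain.X_P22
import Cfsg.Agent.Lib.TC.D.Fi23Chain.X_P23

namespace Cfsg.Agent.Lib.TC.D.Fi23Chain.X

open Cfsg.Agent.Lib.TC.Core Cfsg.Agent.Lib.TC.Enc Cfsg.Agent.Lib.TC.Pres Cfsg.Agent.Lib.TC.Perm Cfsg.Agent.Lib.TC.Main Cfsg.Agent.Lib.TC.Chain

set_option maxRecDepth 100000

open Cfsg.Agent.Lib.TC.D.Fi23Chain.X_Tab Cfsg.Agent.Lib.TC.G.Fi23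
open Cfsg.Agent.Lib.TC.D.Fi23a.Tab (pt)

theorem allC0 : cert.chkRange 0 332 = true := Cfsg.Agent.Lib.TC.D.Fi23Chain.X_C0.ok
theorem allP0 : pt.chkRange [xwp] 0 1322 = true := Cfsg.Agent.Lib.TC.D.Fi23Chain.X_P0.ok
theorem allP1 : pt.chkRange [xwp] 0 2644 = true := PT.chkRange_join (lo := 0) (a := 1322) (b := 1322) _ allP0 Cfsg.Agent.Lib.TC.D.Fi23Chain.X_P1.ok
theorem allP2 : pt.chkRange [xwp] 0 3966 = true := PT.chkRange_join (lo := 0) (a := 2644) (b := 1322) _ allP1 Cfsg.Agent.Lib.TC.D.Fi23Chain.X_P2.ok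
theorem allP3 : pt.chkRange [xwp] 0 5288 = true := PT.chkRange_join (lo := 0) (a := 3966) (b := 1322) _ allP2 Cfsg.Agent.Lib.TC.D.Fi23Chain.X_P3.ok
theorem allP4 : pt.chkRange [xwp] 0 6610 = true := PT.chkRange_join (lo := 0) (a := 5288) (b := 1322) _ allP3 Cfsg.Agent.Lib.TC.D.Fi23Chain.X_P4.ok
theorem allP5 : pt.chkRange [xwp] 0 7932 = true := PT.chkRange_join (lo := 0) (a := 6610) (b := 1322) _ allP4 Cfsg.Agent.Lib.TC.D.Fi23Chain.X_P5.ok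
theorem allP6 : pt.chkRange [xwp] 0 9254 = true := PT.chkRange_join (lo := 0) (a := 7932) (b := 1322) _ allP5 Cfsg.Agent.Lib.TC.D.Fi23Chain.X_P6.ok
theorem allP7 : pt.chkRange [xwp] 0 10576 = true := PT.chkRange_join (lo := 0) (a := 9254) (b := 1322) _ allP6 Cfsg.Agent.Lib.TC.D.Fi23Chain.X_P7.ok
theorem allP8 : pt.chkRange [xwp] 0 11898 = true := PT.chkRange_join (lo := 0) (a := 10576) (b := 1322) _ allP7 Cfsg.Agent.Lib.TC.D.Fi23Chain.X_P8.ok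
theorem allP9 : pt.chkRange [xwp] 0 13220 = true := PT.chkRange_join (lo := 0) (a := 11898) (b := 1322) _ allP8 Cfsg.Agent.Lib.TC.D.Fi23Chain.X_P9.ok
theorem allP10 : pt.chkRange [xwp] 0 14542 = true := PT.chkRange_join (lo := 0) (a := 13220) (b := 1322) _ allP9 Cfsg.Agent.Lib.TC.D.Fi23Chain.X_P10.ok
theorem allP11 : pt.chkRange [xwp] 0 15864 = true := PT.chkRange_join (lo := 0) (a := 14542) (b := 1322) _ allP10 Cfsg.Agent.Lib.TC.D.Fi23Chain.X_P11.ok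
theorem allP12 : pt.chkRange [xwp] 0 17186 = true := PT.chkRange_join (lo := 0) (a := 15864) (b := 1322) _ allP11 Cfsg.Agent.Lib.TC.D.Fi23Chain.X_P12.ok
theorem allP13 : pt.chkRange [xwp] 0 18508 = true := PT.chkRange_join (lo := 0) (a := 17186) (b := 1322) _ allP12 Cfsg.Agent.Lib.TC.D.Fi23Chain.X_P13.ok
theorem allP14 : pt.chkRange [xwp] 0 19830 = true := PT.chkRange_join (lo := 0) (a := 18508) (b := 1322) _ allP13 Cfsg.Agent.Lib.TC.D.Fi23Chain.X_P14.ok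
theorem allP15 : pt.chkRange [xwp] 0 21152 = true := PT.chkRange_join (lo := 0) (a := 19830) (b := 1322) _ allP14 Cfsg.Agent.Lib.TC.D.Fi23Chain.X_P15.ok
theorem allP16 : pt.chkRange [xwp] 0 22474 = true := PT.chkRange_join (lo := 0) (a := 21152) (b := 1322) _ allP15 Cfsg.Agent.Lib.TC.D.Fi23Chain.X_P16.ok
theorem allP17 : pt.chkRange [xwp] 0 23796 = true := PT.chkRange_join (lo := 0) (a := 22474) (b := 1322) _ allP16 Cfsg.Agent.Lib.TC.D.Fi23Chain.X_P17.ok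
theorem allP18 : pt.chkRange [xwp] 0 25118 = true := PT.chkRange_join (lo := 0) (a := 23796) (b := 1322) _ allP17 Cfsg.Agent.Lib.TC.D.Fi23Chain.X_P18.ok
theorem allP19 : pt.chkRange [xwp] 0 26440 = true := PT.chkRange_join (lo := 0) (a := 25118) (b := 1322) _ allP18 Cfsg.Agent.Lib.TC.D.Fi23Chain.X_P19.ok
theorem allP20 : pt.chkRange [xwp] 0 27762 = true := PT.chkRange_join (lo := 0) (a := 26440) (b := 1322) _ allP19 Cfsg.Agent.Lib.TC.D.Fi23Chain.X_P20.ok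
theorem allP21 : pt.chkRange [xwp] 0 29084 = true := PT.chkRange_join (lo := 0) (a := 27762) (b := 1322) _ allP20 Cfsg.Agent.Lib.TC.D.Fi23Chain.X_P21.ok
theorem allP22 : pt.chkRange [xwp] 0 30406 = true := PT.chkRange_join (lo := 0) (a := 29084) (b := 1322) _ allP21 Cfsg.Agent.Lib.TC.D.Fi23Chain.X_P22.ok
theorem allP23 : pt.chkRange [xwp] 0 31671 = true := PT.chkRange_join (lo := 0) (a := 30406) (b := 1265) _ allP22 Cfsg.Agent.Lib.TC.D.Fi23Chain.X_P23.ok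

theorem hFinal : cert.chkFinal 0 332 = true := by decide +kernel

theorem h0 : cert.eLvl (cert.par (cert.find cert.MAX cert.D 0)) = cert.MAX := by decide +kernel

theorem hcount : cert.countRoots cert.N = 1 := by
  rw [countRoots_eq_acc]
  decide +kernel

theorem hchecked : Checked cert where
  hN := by decide
  hC := allC0
  hF := hFinal
  h0 := h0

theorem hcl : Subgroup.normalClosure ({prodA (K.E Rel) xw} : Set (PresentedGroup Rel)) = ⊤ :=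
  normalClosure_top_of_cols valid hrels xw (by decide +kernel) cert witT.get (by decide)
    (by decide +kernel) (by decide +kernel) hchecked hcount

theorem hxp : pt.chkRange [(List.replicate 17 xw).flatten] 0 pt.n = true := by
  rw [hxwp]
  exact allP23

end Cfsg.Agent.Lib.TC.D.Fi23Chain.X
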