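import Cfsg.Agent.Lib.TC.G.Fi23
import Cfsg.Agent.Lib.TC.Chain
import Cfsg.Agent.Lib.TC.D.Fi23Chain.S4_T0

namespace Cfsg.Agent.Lib.TC.D.Fi23Chain.S4_Tab

open Cfsg.Agent.Lib.TC.Core Cfsg.Agent.Lib.TC.Enc Cfsg.Agent.Lib.TC.Pres Cfsg.Agent.Lib.TC.Perm Cfsg.Agent.Lib.TC.Main Cfsg.Agent.Lib.TC.Chain

set_option maxRecDepth 100000

/-- The chunks of the certificate. -/
noncomputable def ctree : Tr Nat := Cfsg.Agent.Lib.TC.D.Fi23Chain.S4_T0.tree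

/-- The relator rotations. -/
noncomputable def rotT : Tr (List Nat) := (Tr.node (Tr.node (Tr.node (Tr.node (Tr.node (Tr.node (Tr.leaf [])
 (Tr.leaf [3,4,3,4]))
 (Tr.node (Tr.leaf [0,5,0,5])
 (Tr.leaf [4,5,4,5,4,5])))
 (Tr.node (Tr.node (Tr.leaf [0,1,0,1,0,1])
 (Tr.leaf [4,5,4,5,4,5]))
 (Tr.node (Tr.leaf [1,5,1,5])
 (Tr.leaf [4,5,4,5,4,5]))))
 (Tr.node (Tr.node (Tr.node (Tr.leaf [3,3])
 (Tr.leaf [4,5,4,5,4,5]))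
 (Tr.node (Tr.leaf [1,3,1,3])
 (Tr.leaf [4,5,4,5,4,5])))
 (Tr.node (Tr.node (Tr.leaf [0,3,0,3])
 (Tr.leaf [4,5,4,5,4,5]))
 (Tr.node (Tr.leaf [2,4,2,4])
 (Tr.leaf [4,5,4,5,4,5])))))
 (Tr.node (Tr.node (Tr.node (Tr.node (Tr.leaf [1,1])
 (Tr.leaf [3,5,3,5]))
 (Tr.node (Tr.leaf [1,2,1,2,1,2])
 (Tr.leaf [4,5,4,5,4,5])))
 (Tr.node (Tr.node (Tr.leaf [0,2,0,2])
 (Tr.leaf [4,5,4,5,4,5]))
 (Tr.node (Tr.leaf [2,3,2,3,2,3])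
 (Tr.leaf [4,5,4,5,4,5]))))
 (Tr.node (Tr.node (Tr.node (Tr.leaf [5,5])
 (Tr.leaf [4,5,4,5,4,5]))
 (Tr.node (Tr.leaf [1,4,1,4,1,4])
 (Tr.leaf [4,5,4,5,4,5])))
 (Tr.node (Tr.node (Tr.leaf [0,4,0,4])
 (Tr.leaf [4,5,4,5,4,5]))
 (Tr.node (Tr.leaf [2,5,2,5])
 (Tr.leaf [4,5,4,5,4,5]))))))
 (Tr.node (Tr.node (Tr.node (Tr.node (Tr.node (Tr.leaf [0,0])
 (Tr.leaf [5,3,5,3]))
 (Tr.node (Tr.leaf [2,1,2,1,2,1])
 (Tr.leaf [4,5,4,5,4,5])))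
 (Tr.node (Tr.node (Tr.leaf [2,0,2,0])
 (Tr.leaf [4,5,4,5,4,5]))
 (Tr.node (Tr.leaf [3,2,3,2,3,2])
 (Tr.leaf [4,5,4,5,4,5]))))
 (Tr.node (Tr.node (Tr.node (Tr.leaf [4,4])
 (Tr.leaf [4,5,4,5,4,5]))
 (Tr.node (Tr.leaf [4,1,4,1,4,1])
 (Tr.leaf [4,5,4,5,4,5])))
 (Tr.node (Tr.node (Tr.leaf [4,0,4,0])
 (Tr.leaf [4,5,4,5,4,5]))
 (Tr.node (Tr.leaf [5,2,5,2])
 (Tr.leaf [4,5,4,5,4,5])))))
 (Tr.node (Tr.node (Tr.node (Tr.node (Tr.leaf [2,2])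
 (Tr.leaf [5,4,5,4,5,4]))
 (Tr.node (Tr.leaf [3,1,3,1])
 (Tr.leaf [4,5,4,5,4,5])))
 (Tr.node (Tr.node (Tr.leaf [3,0,3,0])
 (Tr.leaf [4,5,4,5,4,5]))
 (Tr.node (Tr.leaf [4,2,4,2])
 (Tr.leaf [4,5,4,5,4,5]))))
 (Tr.node (Tr.node (Tr.node (Tr.leaf [1,0,1,0,1,0])
 (Tr.leaf [4,5,4,5,4,5]))
 (Tr.node (Tr.leaf [5,1,5,1])
 (Tr.leaf [4,5,4,5,4,5])))
 (Tr.node (Tr.node (Tr.leaf [5,0,5,0])
 (Tr.leaf [4,5,4,5,4,5]))
 (Tr.node (Tr.leaf [4,3,4,3])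
 (Tr.leaf [4,5,4,5,4,5])))))))

/-- The subgroup rotations. -/
noncomputable def srotT : Tr (List Nat × Nat × List Nat) := (Tr.node (Tr.node (Tr.node (Tr.leaf ([],0,[]))
 (Tr.leaf ([],5,[])))
 (Tr.node (Tr.leaf ([],2,[]))
 (Tr.leaf ([],5,[]))))
 (Tr.node (Tr.node (Tr.leaf ([],1,[]))
 (Tr.leaf ([],5,[])))
 (Tr.node (Tr.leaf ([],4,[]))
 (Tr.leaf ([],5,[])))))

/-- The certificate. -/
noncomputable def cert : Cert :=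
  mkCert 6 27 162 2 37 42 4 15 154 20 120 146 1048575 67108863 8 5 255 31 13 10 7 ctree.get rotT.get srotT.get

/-- The witnesses of the rotations. -/
noncomputable def witT : Tr (Nat × Nat × Bool) := (Tr.node (Tr.node (Tr.node (Tr.node (Tr.node (Tr.node (Tr.leaf (0,0,false))
 (Tr.leaf (16,1,false)))
 (Tr.node (Tr.leaf (5,1,false))
 (Tr.leaf (19,1,false))))
 (Tr.node (Tr.node (Tr.leaf (1,1,false))
 (Tr.leaf (19,1,false)))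
 (Tr.node (Tr.leaf (10,1,false))
 (Tr.leaf (19,1,false)))))
 (Tr.node (Tr.node (Tr.node (Tr.leaf (15,0,false))
 (Tr.leaf (19,1,false)))
 (Tr.node (Tr.leaf (8,1,false))
 (Tr.leaf (19,1,false))))
 (Tr.node (Tr.node (Tr.leaf (3,1,false))
 (Tr.leaf (19,1,false)))
 (Tr.node (Tr.leaf (13,1,false))
 (Tr.leaf (19,1,false))))))
 (Tr.node (Tr.node (Tr.node (Tr.node (Tr.leaf (6,0,false))
 (Tr.leaf (17,1,false)))
 (Tr.node (Tr.leaf (7,1,false))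
 (Tr.leaf (19,1,false))))
 (Tr.node (Tr.node (Tr.leaf (2,1,false))
 (Tr.leaf (19,1,false)))
 (Tr.node (Tr.leaf (12,1,false))
 (Tr.leaf (19,1,false)))))
 (Tr.node (Tr.node (Tr.node (Tr.leaf (20,0,false))
 (Tr.leaf (19,1,false)))
 (Tr.node (Tr.leaf (9,1,false))
 (Tr.leaf (19,1,false))))
 (Tr.node (Tr.node (Tr.leaf (4,1,false))
 (Tr.leaf (19,1,false)))
 (Tr.node (Tr.leaf (14,1,false))
 (Tr.leaf (19,1,false)))))))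
 (Tr.node (Tr.node (Tr.node (Tr.node (Tr.node (Tr.leaf (0,0,false))
 (Tr.leaf (17,0,false)))
 (Tr.node (Tr.leaf (7,0,false))
 (Tr.leaf (19,1,false))))
 (Tr.node (Tr.node (Tr.leaf (2,0,false))
 (Tr.leaf (19,1,false)))
 (Tr.node (Tr.leaf (12,0,false))
 (Tr.leaf (19,1,false)))))
 (Tr.node (Tr.node (Tr.node (Tr.leaf (18,0,false))
 (Tr.leaf (19,1,false)))
 (Tr.node (Tr.leaf (9,0,false))
 (Tr.leaf (19,1,false))))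
 (Tr.node (Tr.node (Tr.leaf (4,0,false))
 (Tr.leaf (19,1,false)))
 (Tr.node (Tr.leaf (14,0,false))
 (Tr.leaf (19,1,false))))))
 (Tr.node (Tr.node (Tr.node (Tr.node (Tr.leaf (11,0,false))
 (Tr.leaf (19,0,false)))
 (Tr.node (Tr.leaf (8,0,false))
 (Tr.leaf (19,1,false))))
 (Tr.node (Tr.node (Tr.leaf (3,0,false))
 (Tr.leaf (19,1,false)))
 (Tr.node (Tr.leaf (13,0,false))
 (Tr.leaf (19,1,false)))))
 (Tr.node (Tr.node (Tr.node (Tr.leaf (1,0,false))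
 (Tr.leaf (19,1,false)))
 (Tr.node (Tr.leaf (10,0,false))
 (Tr.leaf (19,1,false))))
 (Tr.node (Tr.node (Tr.leaf (5,0,false))
 (Tr.leaf (19,1,false)))
 (Tr.node (Tr.leaf (16,0,false))
 (Tr.leaf (19,1,false))))))))

/-- The letters. -/
def ls : List Nat := [2,3,4,5,8,9]

/-- The smaller letters. -/
def ls' : List Nat := [2,3,4,8,9]

/-- The inverses. -/
def inv' (c : Nat) : Nat := [0,1,2,3,4,5].getD c 0

/-- The relators. -/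
def rels' : List (List Nat) :=
  [[0,0],
   [1,0,1,0,1,0],
   [2,0,2,0],
   [3,0,3,0],
   [4,0,4,0],
   [5,0,5,0],
   [1,1],
   [2,1,2,1,2,1],
   [3,1,3,1],
   [4,1,4,1,4,1],
   [5,1,5,1],
   [2,2],
   [3,2,3,2,3,2],
   [4,2,4,2],
   [5,2,5,2],
   [3,3],
   [4,3,4,3],
   [5,3,5,3],
   [4,4],
   [5,4,5,4,5,4],
   [5,5]]

/-- The subgroup. -/
def subs' : List (List Nat) :=
  [[0],[1],[2],[4],[5]]


end Cfsg.Agent.Lib.TC.D.Fi23Chain.S4_Tab
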